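import Groth.Agent.H7Flat.AssLocal
import Groth.Agent.H7Flat.ImpurityDescend

/-!
# Impurities and closed immersions
-/

set_option autoImplicit false
set_option backward.isDefEq.respectTransparency false
set_option linter.style.haveILetI false
universe u

open TensorProduct

namespace Groth.Agent.H8Props.PureClosed

open H7Flat.AssLocal

variable {A B C : Type u} [CommRing A] [CommRing B] [CommRing C] [Algebra A B] [Algebra B C]
  [Algebra A C] [IsScalarTower A B C] {N : Type u} [AddCommGroup N] [Module C N] [Module B N]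
  [IsScalarTower B C N] {p : Ideal A} [p.IsPrime]
  {A' B' C' N' : Type u} [CommRing A'] [CommRing B'] [CommRing C'] [Algebra A A'] [Algebra B B']
  [Algebra C C'] [Algebra A' B'] [Algebra A' C'] [Algebra B' C'] [Algebra A B'] [Algebra A C']
  [Algebra B C'] [IsScalarTower A B B'] [IsScalarTower A A' B'] [IsScalarTower A C C']
  [IsScalarTower A A' C'] [IsScalarTower A' B' C'] [IsScalarTower B B' C'] [IsScalarTower B C C']
  [AddCommGroup N'] [Module C' N'] [Module C N'] [Module B' N'] [Module B N'] [Module A' N']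
  [IsScalarTower C C' N'] [IsScalarTower B' C' N'] [IsScalarTower B B' N'] [IsScalarTower A' C' N']
  [IsScalarTower A' B' N'] [IsScalarTower B C N']

theorem isPushout_right [IsScalarTower A B' C'] [IsScalarTower A B C']
    (h : Algebra.IsPushout A B A' B') (h' : Algebra.IsPushout A C A' C') :
    Algebra.IsPushout B B' C C' :=
  haveI := h
  Algebra.IsPushout.symm ((Algebra.IsPushout.comp_iff A B A' B' (T := C) (T' := C')).mp h')

theorem isBaseChange_iff [Algebra.IsPushout B B' C C'] (f : N →ₗ[C] N') :
    IsBaseChange C' f → IsBaseChange B' (f.restrictScalars B) := by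
  intro hf
  refine IsBaseChange.of_equiv
    ((Algebra.IsPushout.cancelBaseChange B B' C C' N).symm ≪≫ₗ hf.equiv.restrictScalars B') ?_
  intro x
  rw [LinearEquiv.trans_apply, Algebra.IsPushout.cancelBaseChange_symm_tmul, map_one]
  exact hf.equiv_tmul 1 x |>.trans (one_smul _ _)

theorem surjective_algebraMap [Algebra.IsPushout B B' C C'] (h : Function.Surjective (algebraMap B C)) :
    Function.Surjective (algebraMap B' C') := by
  haveI : Algebra.IsPushout B C B' C' := Algebra.IsPushout.symm inferInstance
  intro y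
  refine (Algebra.IsPushout.out (R := B) (S := C) (R' := B') (S' := C')).inductionOn y
    (fun y => ∃ x, algebraMap B' C' x = y) ⟨0, map_zero _⟩ (fun x => ⟨x, rfl⟩) (fun c z hz => ?_)
    (fun z w hz hw => ?_)
  · obtain ⟨b, rfl⟩ := h c
    obtain ⟨z', rfl⟩ := hz
    refine ⟨algebraMap B B' b * z', ?_⟩
    rw [map_mul, Algebra.smul_def, ← IsScalarTower.algebraMap_apply, ← IsScalarTower.algebraMap_apply]
  · obtain ⟨z', rfl⟩ := hz
    obtain ⟨w', rfl⟩ := hw
    exact ⟨z' + w', map_add _ _ _⟩

theorem assoc_comap_iff [Algebra.FiniteType A' B'] (hsur : Function.Surjective (algebraMap B' C'))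
    (t' : Ideal A') [t'.IsPrime] (Q : Ideal C') [Q.IsPrime] [Q.LiesOver t']
    [(Q.comap (algebraMap B' C')).LiesOver t'] :
    FlatCA.fiberIdeal t' (Q.comap (algebraMap B' C')) ∈
        associatedPrimes (t'.Fiber B') (FlatCA.fiberMod t' B' N') ↔
      FlatCA.fiberIdeal t' Q ∈ associatedPrimes (t'.Fiber C') (FlatCA.fiberMod t' C' N') := by
  haveI : Algebra.FiniteType A' C' :=
    Algebra.FiniteType.of_surjective (IsScalarTower.toAlgHom A' B' C') hsur
  rw [assoc_iff, assoc_iff]
  exact (assCond_comap_iff (P := B') (fun s => ⟨1, isUnit_one, (hsur s).choose,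
    by rw [one_mul, (hsur s).choose_spec]⟩) N' t' Q).symm

/-- Impurities along a closed immersion correspond. -/
theorem isImpurity_comap_iff [Algebra.FiniteType A B] [IsScalarTower A B' C'] [IsScalarTower A B C']
    (hBC : Function.Surjective (algebraMap B C)) (f : N →ₗ[C] N') (hB : Algebra.IsPushout A B A' B')
    (hC : Algebra.IsPushout A C A' C') (hf : IsBaseChange C' f) (t' t : Ideal A') [t'.IsPrime]
    [t.IsPrime] (Q : Ideal C') [Q.IsPrime] :
    FlatCA.IsImpurity A B N p A' B' N' (f.restrictScalars B) t' t (Q.comap (algebraMap B' C')) ↔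
      FlatCA.IsImpurity A C N p A' C' N' f t' t Q := by
  haveI := isPushout_right hB hC
  have hsur := surjective_algebraMap (B := B) (B' := B') (C := C) (C' := C') hBC
  haveI : Algebra.FiniteType A' B' := by
    have : Algebra.IsPushout A A' B B' := Algebra.IsPushout.symm hB
    exact Algebra.FiniteType.equiv (inferInstanceAs (Algebra.FiniteType A' (A' ⊗[A] B)))
      (Algebra.IsPushout.equiv A A' B B')
  have hover : ∀ (Q' : Ideal C') (s : Ideal A'),
      (Q'.comap (algebraMap B' C')).LiesOver s ↔ Q'.LiesOver s := fun Q' s => by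
    rw [Ideal.liesOver_iff, Ideal.liesOver_iff, Ideal.under, Ideal.under, Ideal.comap_comap,
      ← IsScalarTower.algebraMap_eq]
  constructor
  · rintro ⟨-, -, h1, h2, h3, h4, h5⟩
    haveI := h3
    haveI := (hover Q t').1 h3
    exact ⟨hC, hf, h1, h2, inferInstance, (assoc_comap_iff hsur t' Q).1 h4, fun P' _ hP' hl =>
      h5 (P'.comap (algebraMap B' C')) (Ideal.comap_mono hP') ((hover P' t).2 hl)⟩
  · rintro ⟨-, -, h1, h2, h3, h4, h5⟩
    haveI := h3
    haveI := (hover Q t').2 h3
    refine ⟨hB, isBaseChange_iff f hf, h1, h2, inferInstance, (assoc_comap_iff hsur t' Q).2 h4,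
      fun P' _ hP' hl => ?_⟩
    have hker : RingHom.ker (algebraMap B' C') ≤ P' := (Ideal.comap_mono bot_le).trans hP'
    haveI := Ideal.map_isPrime_of_surjective hsur hker
    have hmap : (P'.map (algebraMap B' C')).comap (algebraMap B' C') = P' := by
      rw [Ideal.comap_map_of_surjective _ hsur, ← RingHom.ker_eq_comap_bot, sup_eq_left.2 hker]
    refine h5 (P'.map (algebraMap B' C')) ?_ ((hover _ t).1 (hmap.symm ▸ hl))
    exact (Ideal.map_comap_of_surjective _ hsur Q).ge.trans (Ideal.map_mono hP')

end Groth.Agent.H8Props.PureClosed
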