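import Groth.Agent.H8Props.PureClosed.Basic

/-!
# Impurities of a module and of its pushforward along a closed immersion
-/

set_option autoImplicit false
set_option backward.isDefEq.respectTransparency false
set_option linter.style.haveILetI false
universe u

open TensorProduct

namespace Groth.Agent.H8Props.PureClosed

variable {A B C : Type u} [CommRing A] [CommRing B] [CommRing C] [Algebra A B] [Algebra B C]
  [Algebra A C] [IsScalarTower A B C] [Algebra.FiniteType A B] {N : Type u} [AddCommGroup N]
  [Module C N] [Module B N] [IsScalarTower B C N] {p : Ideal A} [p.IsPrime]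
  (hBC : Function.Surjective (algebraMap B C))
  (Q : ∀ (A' : Type u) [CommRing A'] [Algebra A A'], Ideal A' → Prop)

include hBC in
theorem hasImpurity_of_pushforward (h : FlatCA.HasImpurity A B N p Q) : FlatCA.HasImpurity A C N p Q := by
  obtain ⟨A', B', N', _, _, _, _, _, _, _, _, _, _, _, _, _, _, g, t', t, _, _, P, _, himp, hQ⟩ := h
  obtain ⟨hpush, hbc, htt, htp, hPt', hass, hnone⟩ := himp
  let C' := B' ⊗[B] C
  letI : Algebra C C' := Algebra.TensorProduct.rightAlgebra
  haveI : IsScalarTower A A' C' := inferInstance
  haveI : IsScalarTower A' B' C' := inferInstance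
  haveI : IsScalarTower B C C' := inferInstance
  haveI : IsScalarTower A C C' := IsScalarTower.of_algebraMap_eq fun a => by
    rw [IsScalarTower.algebraMap_apply A B C, ← IsScalarTower.algebraMap_apply B C C',
      ← IsScalarTower.algebraMap_apply A B C']
  haveI hpoB : Algebra.IsPushout B B' C C' := inferInstance
  have hpC : Algebra.IsPushout A C A' C' := by
    haveI := hpush
    exact (Algebra.IsPushout.comp_iff A B A' B' (T := C) (T' := C')).mpr hpoB.symm
  let N₂ := C' ⊗[C] N
  haveI : IsScalarTower B' C' N₂ := inferInstance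
  haveI : IsScalarTower A' C' N₂ := inferInstance
  haveI : IsScalarTower A' B' N₂ := IsScalarTower.of_algebraMap_smul fun a n => by
    rw [← algebraMap_smul C' (algebraMap A' B' a) n, ← algebraMap_smul C' a n, ← IsScalarTower.algebraMap_apply]
  haveI : IsScalarTower B B' N₂ := IsScalarTower.of_algebraMap_smul fun b n => by
    rw [← algebraMap_smul C' (algebraMap B B' b) n, ← algebraMap_smul C' b n, ← IsScalarTower.algebraMap_apply]
  let f₂ : N →ₗ[C] N₂ := TensorProduct.mk C C' N 1
  have hf₂ : IsBaseChange C' f₂ := TensorProduct.isBaseChange C N C'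
  have hf₂' := isBaseChange_iff (B := B) (B' := B') f₂ hf₂
  let e : N' ≃ₗ[B'] N₂ := hbc.equiv.symm ≪≫ₗ hf₂'.equiv
  have he : IsBaseChange B' (f₂.restrictScalars B) := hf₂'
  have hsur := surjective_algebraMap (B := B) (B' := B') (C := C) (C' := C') hBC
  haveI := hPt'
  haveI : Algebra.FiniteType A' B' := by
    have : Algebra.IsPushout A A' B B' := Algebra.IsPushout.symm hpush
    exact Algebra.FiniteType.equiv (inferInstanceAs (Algebra.FiniteType A' (A' ⊗[A] B)))
      (Algebra.IsPushout.equiv A A' B B')
  have hassN : FlatCA.fiberIdeal t' P ∈ associatedPrimes (t'.Fiber B') (FlatCA.fiberMod t' B' N₂) := by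
    rw [H7Flat.AssLocal.assoc_iff] at hass ⊢
    exact (H7Flat.AssLocal.assCond_iff t' P e.toLinearMap
      (H7Flat.AssLocal.isLocIso_surjective P _ e.surjective fun x hx =>
        ⟨1, fun h => Ideal.IsPrime.ne_top ‹_› ((Ideal.eq_top_iff_one _).2 h), by
          rw [e.map_eq_zero_iff.1 hx, smul_zero]⟩)).1 hass
  have hker : RingHom.ker (algebraMap B' C') ≤ P := by
    obtain ⟨n, hn⟩ := (H7Flat.AssLocal.assoc_iff N₂ t' P).1 hassN
    intro s hs
    refine (hn s).2 ⟨1, fun h => Ideal.IsPrime.ne_top ‹t'.IsPrime› ((Ideal.eq_top_iff_one _).2 h), ?_⟩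
    rw [one_smul, ← algebraMap_smul C' s n, RingHom.mem_ker.1 hs, zero_smul]
    exact Submodule.zero_mem _
  haveI := Ideal.map_isPrime_of_surjective hsur hker
  have hmap : (P.map (algebraMap B' C')).comap (algebraMap B' C') = P := by
    rw [Ideal.comap_map_of_surjective _ hsur, ← RingHom.ker_eq_comap_bot, sup_eq_left.2 hker]
  refine ⟨A', C', N₂, inferInstance, inferInstance, inferInstance, inferInstance, inferInstance,
    inferInstance, inferInstance, inferInstance, inferInstance, inferInstance, inferInstance,
    inferInstance, inferInstance, inferInstance, f₂, t', t, inferInstance, inferInstance,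
    P.map (algebraMap B' C'), inferInstance, ?_, hQ⟩
  refine (isImpurity_comap_iff hBC f₂ hpush hpC hf₂ t' t (P.map (algebraMap B' C'))).1 ?_
  simp only [hmap]
  exact ⟨hpush, he, htt, htp, hPt', hassN, hnone⟩

include hBC in
theorem hasImpurity_pushforward (h : FlatCA.HasImpurity A C N p Q) : FlatCA.HasImpurity A B N p Q := by
  obtain ⟨A', C', N', _, _, _, _, _, _, _, _, _, _, _, _, _, _, g, t', t, _, _, P, _, himp, hQ⟩ := h
  obtain ⟨hpush, hbc, -⟩ := id himp
  let B' := A' ⊗[A] B
  letI : Algebra B B' := Algebra.TensorProduct.rightAlgebra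
  haveI : IsScalarTower A B B' := inferInstance
  have hpB : Algebra.IsPushout A B A' B' := Algebra.IsPushout.symm inferInstance
  letI : Algebra B C' := ((algebraMap C C').comp (algebraMap B C)).toAlgebra
  haveI : IsScalarTower B C C' := IsScalarTower.of_algebraMap_eq fun _ => rfl
  haveI : IsScalarTower A B C' := IsScalarTower.of_algebraMap_eq fun a => by
    change _ = algebraMap C C' (algebraMap B C (algebraMap A B a))
    rw [← IsScalarTower.algebraMap_apply A B C, ← IsScalarTower.algebraMap_apply A C C']
  let φ : B' →ₐ[A] C' := Algebra.TensorProduct.lift (IsScalarTower.toAlgHom A A' C')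
    (IsScalarTower.toAlgHom A B C') fun _ _ => mul_comm _ _
  letI : Algebra B' C' := φ.toRingHom.toAlgebra
  haveI : IsScalarTower A B' C' := IsScalarTower.of_algebraMap_eq fun a => (φ.commutes a).symm
  haveI : IsScalarTower A' B' C' := IsScalarTower.of_algebraMap_eq fun a => by
    change _ = φ (a ⊗ₜ 1)
    rw [Algebra.TensorProduct.lift_tmul, map_one, mul_one]
    rfl
  haveI : IsScalarTower B B' C' := IsScalarTower.of_algebraMap_eq fun b => by
    change _ = φ (1 ⊗ₜ b)
    rw [Algebra.TensorProduct.lift_tmul, map_one, one_mul]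
    rfl
  letI : Module B' N' := Module.compHom N' (algebraMap B' C')
  haveI : IsScalarTower B' C' N' := IsScalarTower.of_algebraMap_smul fun _ _ => rfl
  letI : Module B N' := Module.compHom N' (algebraMap B C)
  haveI : IsScalarTower B C N' := IsScalarTower.of_algebraMap_smul fun _ _ => rfl
  haveI : IsScalarTower B B' N' := IsScalarTower.of_algebraMap_smul fun b n => by
    change algebraMap B' C' (algebraMap B B' b) • n = algebraMap B C b • n
    rw [← IsScalarTower.algebraMap_apply, IsScalarTower.algebraMap_apply B C C', algebraMap_smul]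
  haveI : IsScalarTower A' B' N' := IsScalarTower.of_algebraMap_smul fun a n => by
    change algebraMap B' C' (algebraMap A' B' a) • n = a • n
    rw [← IsScalarTower.algebraMap_apply, algebraMap_smul]
  exact ⟨A', B', N', inferInstance, inferInstance, inferInstance, inferInstance, inferInstance,
    inferInstance, inferInstance, inferInstance, inferInstance, inferInstance, inferInstance,
    inferInstance, inferInstance, inferInstance, g.restrictScalars B, t', t, inferInstance,
    inferInstance, P.comap (algebraMap B' C'), inferInstance,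
    (isImpurity_comap_iff hBC g hpB hpush hbc t' t P).2 himp, hQ⟩

include hBC in
theorem hasImpurity_iff : FlatCA.HasImpurity A B N p Q ↔ FlatCA.HasImpurity A C N p Q :=
  ⟨hasImpurity_of_pushforward hBC Q, hasImpurity_pushforward hBC Q⟩

end Groth.Agent.H8Props.PureClosed
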